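import Groth.Agent.Sga3B.MT.MemOps
import Groth.Agent.Sga3C.GeomRedPerf
import Groth.Agent.Sga3C.ClosedSub
import Groth.Agent.Ega1.ReducedSub
import Groth.Agent.Picfga.FiniteDescent
import Groth.Agent.Books.AlgPtsGrp
import Groth.Agent.Etcore.SmoothRed
import Mathlib.AlgebraicGeometry.Group.Smooth

/-!
# Descent of smooth closed subgroups along algebraic extensions of a perfect field

`k` perfect, `K / k` algebraic, `G` a group scheme over `k`, `l : L ⟶ G_K` a smooth closed subgroup such that
two `E`-points of `G_K` with the same image in `G` lie in `L` simultaneously.  Then `L` comes from a closed subgroup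
of `G`.
-/

set_option autoImplicit false
universe u
open CategoryTheory MonoidalCategory CartesianMonoidalCategory MonObj GrpObj AlgebraicGeometry Limits

namespace Groth.Agent.Sga3.H821.DescSub

open Groth.Agent.Sga3B Groth.Agent.Sga3B.BcPts

/-- `E`-points of `G_K` with the same image in `G` lie in `L` simultaneously. -/
def Sym {S S' : Scheme.{u}} {f : S' ⟶ S} {G : Over S} {L : Over S'} (l : L ⟶ Red.bc f G) : Prop :=
  ∀ (E : Type u) [Field E] (u v : Spec (CommRingCat.of E) ⟶ pullback G.hom f),
    u ≫ pullback.fst G.hom f = v ≫ pullback.fst G.hom f →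
    (∃ x : Spec (CommRingCat.of E) ⟶ L.left, x ≫ l.left = u) → ∃ y : Spec (CommRingCat.of E) ⟶ L.left, y ≫ l.left = v

section top

variable {S S' : Scheme.{u}} {f : S' ⟶ S} {G : Over S} {L : Over S'} (l : L ⟶ Red.bc f G)
  [IsClosedImmersion l.left]

/-- A morphism from a reduced scheme whose set-theoretic image lies in a closed subscheme factors
through it. -/
theorem exists_lift_sch {X Y T : Scheme.{u}} (i : X ⟶ Y) [IsClosedImmersion i] (f : T ⟶ Y)
    [IsReduced T] (h : Set.range f ⊆ Set.range i) : ∃ g : T ⟶ X, g ≫ i = f :=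
  Ega1.ReducedSub.exists_factor_of_range_subset f i h

theorem range_of_isPullback {X Y Z W : Scheme.{u}} {a : X ⟶ Y} {b : X ⟶ Z} {f : Y ⟶ W} {g : Z ⟶ W}
    (h : IsPullback a b f g) : Set.range a = f ⁻¹' Set.range g := by
  have h1 : a = h.isoPullback.hom ≫ pullback.fst f g := h.isoPullback_hom_fst.symm
  rw [h1, ← Scheme.Pullback.range_fst]
  ext y
  constructor
  · rintro ⟨x, rfl⟩
    exact ⟨h.isoPullback.hom x, by rw [Scheme.Hom.comp_apply]⟩
  · rintro ⟨x, rfl⟩
    exact ⟨h.isoPullback.inv x, by rw [← Scheme.Hom.comp_apply, Iso.inv_hom_id_assoc]⟩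

theorem preimage_image_eq (h : Sym l) :
    (pullback.fst G.hom f) ⁻¹' ((pullback.fst G.hom f) '' Set.range l.left) = Set.range l.left := by
  refine subset_antisymm ?_ (Set.subset_preimage_image _ _)
  rintro y ⟨y', hy', hyy⟩
  obtain ⟨z, hz1, hz2⟩ := Scheme.Pullback.exists_preimage_pullback (f := pullback.fst G.hom f)
    (g := pullback.fst G.hom f) y' y hyy
  let Z : Scheme.{u} := pullback (pullback.fst G.hom f) (pullback.fst G.hom f)
  let E := Z.residueField z
  let e : Spec E ⟶ Z := Z.fromSpecResidueField z
  have hu : Set.range (e ≫ pullback.fst _ _) ⊆ Set.range l.left := by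
    rintro _ ⟨x, rfl⟩
    have : e x = z := Scheme.fromSpecResidueField_apply z x
    rw [Scheme.Hom.comp_apply, this, hz1]
    exact hy'
  obtain ⟨x, hx⟩ := exists_lift_sch l.left (e ≫ pullback.fst _ _) hu
  obtain ⟨w, hw⟩ := h E (e ≫ pullback.fst _ _) (e ≫ pullback.snd _ _) (by
    rw [Category.assoc, Category.assoc, pullback.condition]) ⟨x, hx⟩
  refine ⟨w (IsLocalRing.closedPoint E), ?_⟩
  rw [← Scheme.Hom.comp_apply, hw, Scheme.Hom.comp_apply]
  have : e (IsLocalRing.closedPoint E) = z := Scheme.fromSpecResidueField_apply z _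
  rw [this, hz2]

end top

section field

variable {k K : Type u} [Field k] [Field K] [PerfectField k]
  {f : Spec (CommRingCat.of K) ⟶ Spec (CommRingCat.of k)}
  {G : Over (Spec (CommRingCat.of k))} {L : Over (Spec (CommRingCat.of K))}

/-- Descent of a reduced closed subscheme. -/
theorem exists_sub [IsIntegralHom f] (l : L ⟶ Red.bc f G) [IsClosedImmersion l.left] [IsReduced L.left]
    (h : Sym l) : ∃ (M : Over (Spec (CommRingCat.of k))) (m : M ⟶ G) (e : L ≅ Red.bc f M),
      IsClosedImmersion m.left ∧ IsReduced M.left ∧ e.hom ≫ (Over.pullback f).map m = l := by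
  have hcl : IsClosed ((pullback.fst G.hom f) '' Set.range l.left) := by
    apply (pullback.fst G.hom f).isClosedMap
    exact l.left.isClosedEmbedding.isClosed_range
  obtain ⟨M, m, hm, hM, hmr⟩ := Ega1.ReducedSub.exists_reduced_immersion _ hcl.isLocallyClosed
  have hmc : IsClosedImmersion m := IsClosedImmersion.of_isPreimmersion m (by rw [hmr]; exact hcl)
  let M' : Over (Spec (CommRingCat.of k)) := Over.mk (m ≫ G.hom)
  let m' : M' ⟶ G := Over.homMk m rfl
  have hgr : GeometricallyReduced M'.hom := by
    have : IsReduced M'.left := hM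
    exact Sga3C.GeomRedPerf.geometricallyReduced_of_isReduced _
  have hred : IsReduced (Red.bc f M').left := by
    have : Flat M'.hom := inferInstance
    exact inferInstanceAs (IsReduced (pullback M'.hom f))
  have hcl' : IsClosedImmersion ((Over.pullback f).map m').left :=
    MorphismProperty.of_isPullback (Parab.EtHom.isPullback_map f m') hmc
  have hrange : Set.range ((Over.pullback f).map m').left = Set.range l.left := by
    rw [← preimage_image_eq l h, ← hmr]
    exact range_of_isPullback (Parab.EtHom.isPullback_map f m').flip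
  obtain ⟨a, ha⟩ := Books.AlgPtsGrp.exists_lift ((Over.pullback f).map m') l hrange.ge
  obtain ⟨b, hb⟩ := Books.AlgPtsGrp.exists_lift l ((Over.pullback f).map m') hrange.le
  have hml : Mono l := Books.AlgPtsGrp.mono_of_isClosedImmersion l
  have hmm : Mono ((Over.pullback f).map m') := Books.AlgPtsGrp.mono_of_isClosedImmersion _
  refine ⟨M', m', ⟨a, b, ?_, ?_⟩, hmc, hM, ha⟩
  · rw [← cancel_mono l, Category.assoc, hb, ha, Category.id_comp]
  · rw [← cancel_mono ((Over.pullback f).map m'), Category.assoc, ha, hb, Category.id_comp]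

end field

section factor

variable {S S' : Scheme.{u}} {f : S' ⟶ S} [Flat f] [Surjective f] {G M : Over S} (m : M ⟶ G)
  [IsClosedImmersion m.left]

/-- Factoring through a closed subscheme can be tested after a flat surjective base change. -/
theorem exists_factor {X : Over S} (g : X ⟶ G)
    (h : ∃ y : Red.bc f X ⟶ Red.bc f M, y ≫ (Over.pullback f).map m = (Over.pullback f).map g) :
    ∃ x : X ⟶ M, x ≫ m = g := by
  obtain ⟨y, hy⟩ := h
  let ε : (Over.map f).obj (Red.bc f X) ⟶ X := (bcEquiv f _ X).symm (𝟙 _)
  have hε : ε.left = pullback.fst X.hom f := by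
    simp [ε, bcEquiv, Adjunction.homEquiv_counit]
  have h1 : Flat ε.left := by rw [hε]; infer_instance
  have h2 : Surjective ε.left := by rw [hε]; infer_instance
  have h3 : IsSchemeTheoreticallyDominant ε.left :=
    Sga3C.FlatGeneric.isSchemeTheoreticallyDominant_of_flat_surjective _
  refine Sga3C.SchemImage.exists_lift_over ε g m ((bcEquiv f _ M).symm y) ?_
  rw [← bcEquiv_symm_comp, hy, ← bcEquiv_symm_comp, Category.id_comp]

end factor

end Groth.Agent.Sga3.H821.DescSub
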